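import Mathlib.Algebra.BigOperators.Group.Finset.Powerset
import Mathlib.Algebra.BigOperators.Fin
import Mathlib.Algebra.Module.Basic
import Mathlib.Algebra.Module.BigOperators
import Mathlib.Data.Finset.Powerset
import Mathlib.Data.Fintype.BigOperators
import Mathlib.Tactic.Module
import Mathlib.Tactic.Ring
import Mathlib.Tactic.Abel

/-!
Deviations of maps between abelian groups.
-/

set_option autoImplicit false
universe u v

namespace K821.Deviation

open Finset

variable {A : Type u} {G : Type v} [AddCommGroup A] [AddCommGroup G]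

/-- the `k`-th deviation of `f` -/
def dev (f : A → G) (n : ℕ) (x : Fin n → A) : G :=
  ∑ I ∈ ((Finset.univ : Finset (Fin n)).powerset.erase ∅), ((-1 : ℤ) ^ (n + I.card)) • f (∑ i ∈ I, x i)

/-- the sum over all subsets, including the empty one -/
def dfull (f : A → G) (n : ℕ) (x : Fin n → A) : G :=
  ∑ I ∈ (Finset.univ : Finset (Fin n)).powerset, ((-1 : ℤ) ^ (n + I.card)) • f (∑ i ∈ I, x i)

theorem dev_eq (f : A → G) (n : ℕ) (x : Fin n → A) :
    dev f n x = dfull f n x - ((-1 : ℤ) ^ n) • f 0 := by
  unfold dev dfull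
  have h : (∅ : Finset (Fin n)) ∈ (Finset.univ : Finset (Fin n)).powerset := by simp
  rw [Finset.sum_erase_eq_sub h]
  simp

/-- the alternating sum over the subsets not containing `j`, shifted by `c` -/
def part (f : A → G) (n : ℕ) (x : Fin n → A) (j : Fin n) (c : A) : G :=
  ∑ I ∈ ((Finset.univ : Finset (Fin n)).erase j).powerset, ((-1 : ℤ) ^ (n + I.card)) • f (c + ∑ i ∈ I, x i)

theorem shifted_eq (f : A → G) (n : ℕ) (x : Fin n → A) (j : Fin n) (a : A) :
    ∑ I ∈ (Finset.univ : Finset (Fin n)).powerset, ((-1 : ℤ) ^ (n + I.card)) • f (a + ∑ i ∈ I, x i) =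
      part f n x j a - part f n x j (a + x j) := by
  have huniv : (Finset.univ : Finset (Fin n)) = insert j (Finset.univ.erase j) :=
    (Finset.insert_erase (Finset.mem_univ j)).symm
  have hj : j ∉ (Finset.univ : Finset (Fin n)).erase j := Finset.notMem_erase _ _
  unfold part
  rw [huniv, Finset.sum_powerset_insert hj, ← huniv, sub_eq_add_neg, ← Finset.sum_neg_distrib]
  congr 1
  refine Finset.sum_congr rfl fun I hI => ?_
  have hjI : j ∉ I := fun h => hj (Finset.mem_powerset.mp hI h)
  rw [Finset.card_insert_of_notMem hjI, Finset.sum_insert hjI, ← add_assoc, ← add_assoc,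
    pow_succ, mul_neg_one, neg_smul]

theorem dfull_eq (f : A → G) (n : ℕ) (x : Fin n → A) (j : Fin n) :
    dfull f n x = part f n x j 0 - part f n x j (x j) := by
  have h := shifted_eq f n x j 0
  simp only [zero_add] at h
  exact h

theorem part_update (f : A → G) (n : ℕ) (y : Fin n → A) (j : Fin n) (b c : A) :
    part f n (Function.update y j b) j c = part f n y j c := by
  unfold part
  refine Finset.sum_congr rfl fun I hI => ?_
  have hjI : j ∉ I := fun h => Finset.notMem_erase _ _ (Finset.mem_powerset.mp hI h)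
  congr 3
  refine Finset.sum_congr rfl fun i hi => ?_
  rw [Function.update_of_ne]
  rintro rfl
  exact hjI hi

/-- the two-part decomposition of a sum over the subsets of `Fin (n+1)` -/
theorem sum_powerset_succ {H : Type v} [AddCommMonoid H] (n : ℕ) (F : Finset (Fin (n + 1)) → H) :
    ∑ I ∈ (Finset.univ : Finset (Fin (n + 1))).powerset, F I =
      ∑ J ∈ (Finset.univ : Finset (Fin n)).powerset, F (J.image Fin.succ) +
        ∑ J ∈ (Finset.univ : Finset (Fin n)).powerset, F (insert 0 (J.image Fin.succ)) := by
  have huniv : (Finset.univ : Finset (Fin (n + 1))) = insert 0 ((Finset.univ : Finset (Fin n)).image Fin.succ) := by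
    ext i
    refine Fin.cases ?_ (fun i => ?_) i <;> simp
  have h0 : (0 : Fin (n + 1)) ∉ (Finset.univ : Finset (Fin n)).image Fin.succ := by
    simp
  have hinj : Function.Injective (fun J : Finset (Fin n) => J.image Fin.succ) :=
    Finset.image_injective (Fin.succ_injective n)
  rw [huniv, Finset.sum_powerset_insert h0, Finset.powerset_image,
    Finset.sum_image fun a _ b _ h => hinj h, Finset.sum_image fun a _ b _ h => hinj h]

theorem dfull_cons (f : A → G) (n : ℕ) (a : A) (z : Fin n → A) :
    dfull f (n + 1) (Fin.cons a z : Fin (n + 1) → A) =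
      - dfull f n z + ∑ I ∈ (Finset.univ : Finset (Fin n)).powerset, ((-1 : ℤ) ^ (n + I.card)) • f (a + ∑ i ∈ I, z i) := by
  unfold dfull
  rw [sum_powerset_succ, ← Finset.sum_neg_distrib]
  congr 1
  · refine Finset.sum_congr rfl fun I _ => ?_
    rw [Finset.card_image_of_injective _ (Fin.succ_injective n),
      Finset.sum_image fun a _ b _ h => Fin.succ_injective n h]
    simp only [Fin.cons_succ]
    rw [show n + 1 + I.card = n + I.card + 1 by ring, pow_succ, mul_neg_one, neg_smul]
  · refine Finset.sum_congr rfl fun I _ => ?_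
    have h0 : (0 : Fin (n + 1)) ∉ I.image Fin.succ := by
      simp [Fin.succ_ne_zero]
    rw [Finset.card_insert_of_notMem h0, Finset.sum_insert h0,
      Finset.card_image_of_injective _ (Fin.succ_injective n),
      Finset.sum_image fun a _ b _ h => Fin.succ_injective n h]
    simp only [Fin.cons_succ, Fin.cons_zero]
    rw [show n + 1 + (I.card + 1) = n + I.card + 1 + 1 by ring, pow_succ, pow_succ, mul_neg_one, mul_neg_one,
      neg_neg]

theorem dev_cons_update (f : A → G) (n : ℕ) (y : Fin n → A) (j : Fin n) (a b : A) :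
    dev f (n + 1) (Fin.cons a (Function.update y j b) : Fin (n + 1) → A) =
      dev f n (Function.update y j (a + b)) - dev f n (Function.update y j a) -
        dev f n (Function.update y j b) := by
  rw [dev_eq, dev_eq, dev_eq, dev_eq, dfull_cons, shifted_eq f n _ j a, dfull_eq f n _ j, dfull_eq f n _ j,
    dfull_eq f n _ j]
  simp only [part_update, Function.update_self]
  rw [pow_succ, mul_neg_one, neg_smul]
  abel

theorem dev_eq_of_coord_eq_zero (f : A → G) (n : ℕ) (x : Fin n → A) (i : Fin n) (hx : x i = 0) :
    dev f n x = ((-1 : ℤ) ^ (n + 1)) • f 0 := by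
  rw [dev_eq, dfull_eq f n x i, hx, sub_self, zero_sub, pow_succ, mul_neg_one, neg_smul]

omit [AddCommGroup A] in
theorem cons_update_tail {n : ℕ} (hn : 1 ≤ n) (x : Fin (n + 1) → A) :
    (Fin.cons (x 0) (Function.update (Fin.tail x) ⟨0, hn⟩ (Fin.tail x ⟨0, hn⟩)) : Fin (n + 1) → A) = x := by
  rw [Function.update_eq_self, Fin.cons_self_tail]

theorem dev_succ_eq_zero_iff (f : A → G) (n : ℕ) (hn : 1 ≤ n) :
    (∀ x : Fin (n + 1) → A, dev f (n + 1) x = 0) ↔
      ∀ (j : Fin n) (y : Fin n → A) (a b : A),
        dev f n (Function.update y j (a + b)) = dev f n (Function.update y j a) + dev f n (Function.update y j b) := by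
  constructor
  · intro h j y a b
    have h1 := dev_cons_update f n y j a b
    rw [h] at h1
    rw [sub_sub] at h1
    exact (sub_eq_zero.mp h1.symm)
  · intro h x
    rw [← cons_update_tail hn x, dev_cons_update, h]
    abel

end K821.Deviation
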