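import Groth.Agent.PtDeg.K821.CompactMeas
import Groth.Agent.PtDeg.K821.Deviation
import Mathlib.MeasureTheory.Group.Measure
import Mathlib.MeasureTheory.Measure.Haar.Basic

/-!
Deviations of real functions on compact abelian groups.
-/

set_option autoImplicit false
set_option linter.unusedSectionVars false
universe u

open MeasureTheory

namespace K821.CompactDev

open K821.Deviation K821.CompactMeas

/-- the cocycle condition with respect to every pair of variables -/
def IsCocycle {G : Type u} [AddCommGroup G] {n : ℕ} (ψ : (Fin n → G) → ℝ) : Prop :=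
  ∀ (i j : Fin n), i ≠ j → ∀ (x : Fin n → G) (a b c : G),
      ψ (Function.update (Function.update x i (a + b)) j c) + ψ (Function.update (Function.update x i a) j b) =
        ψ (Function.update (Function.update x i a) j (b + c)) + ψ (Function.update (Function.update x i b) j c)

variable {G : Type u} [AddCommGroup G] [TopologicalSpace G] [IsTopologicalAddGroup G] [CompactSpace G]
  [T2Space G] [MeasurableSpace G] [BorelSpace G] (μ : Measure G) [μ.IsAddHaarMeasure] [IsProbabilityMeasure μ]

/-- integrate out the second variable -/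
noncomputable def integ {m : ℕ} (ψ : (Fin (m + 2) → G) → ℝ) (y : Fin (m + 1) → G) : ℝ :=
  ∫ c, ψ (Fin.cons (y 0) (Fin.cons c (Fin.tail y) : Fin (m + 1) → G)) ∂μ

theorem meas_G (f : C(G, ℝ)) : Measurable f := f.continuous.measurable

theorem continuous_cons {n : ℕ} {X : Type*} [TopologicalSpace X] {f : X → G} {g : X → (Fin n → G)}
    (hf : Continuous f) (hg : Continuous g) : Continuous fun x => (Fin.cons (f x) (g x) : Fin (n + 1) → G) :=
  hf.finCons hg

theorem continuous_tail {n : ℕ} : Continuous (Fin.tail : (Fin (n + 1) → G) → (Fin n → G)) :=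
  continuous_pi fun i => continuous_apply i.succ

theorem continuous_integ {m : ℕ} {ψ : (Fin (m + 2) → G) → ℝ} (hψ : Continuous ψ) :
    Continuous (integ μ ψ) := by
  unfold integ
  refine continuous_param μ meas_G (F := fun (y : Fin (m + 1) → G) (c : G) =>
    ψ (Fin.cons (y 0) (Fin.cons c (Fin.tail y) : Fin (m + 1) → G))) ?_
  refine hψ.comp ?_
  refine continuous_cons ((continuous_apply 0).comp continuous_fst) ?_
  exact continuous_cons continuous_snd (continuous_tail.comp continuous_fst)

/-- the insertion of a variable at position one -/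
theorem cons_cons_update {m : ℕ} (y : Fin (m + 1) → G) (c : G) (i : Fin (m + 1)) (a : G) :
    (Fin.cons (Function.update y i a 0) (Fin.cons c (Fin.tail (Function.update y i a)) : Fin (m + 1) → G) :
      Fin (m + 2) → G) =
      Function.update (Fin.cons (y 0) (Fin.cons c (Fin.tail y) : Fin (m + 1) → G) : Fin (m + 2) → G)
        ((1 : Fin (m + 2)).succAbove i) a := by
  refine Fin.cases ?_ (fun i => ?_) i
  · rw [Function.update_self, Fin.tail_update_zero]
    have : (1 : Fin (m + 2)).succAbove 0 = 0 := by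
      rw [Fin.succAbove_of_castSucc_lt]
      · rfl
      · exact Fin.mk_lt_mk.mpr (by simp)
    rw [this, Fin.update_cons_zero]
  · rw [Function.update_of_ne (Fin.succ_ne_zero i).symm, Fin.tail_update_succ]
    have : (1 : Fin (m + 2)).succAbove i.succ = i.succ.succ := by
      rw [Fin.succAbove_of_le_castSucc]
      rw [Fin.le_iff_val_le_val]
      simp
    rw [this, ← Fin.cons_update, ← Fin.cons_update]

theorem integ_isCocycle {m : ℕ} {ψ : (Fin (m + 2) → G) → ℝ} (hψ : Continuous ψ) (h : IsCocycle ψ) :
    IsCocycle (integ μ ψ) := by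
  intro i j hij x a b c
  have hne : (1 : Fin (m + 2)).succAbove i ≠ (1 : Fin (m + 2)).succAbove j :=
    fun h => hij (Fin.succAbove_right_injective h)
  have hint : ∀ z : Fin (m + 1) → G, Integrable (fun t : G =>
      ψ (Fin.cons (z 0) (Fin.cons t (Fin.tail z) : Fin (m + 1) → G))) μ := by
    intro z
    refine integrable_of_bound μ meas_G ⟨fun t : G =>
      ψ (Fin.cons (z 0) (Fin.cons t (Fin.tail z) : Fin (m + 1) → G)), ?_⟩
    refine hψ.comp ?_
    exact continuous_cons continuous_const (continuous_cons continuous_id continuous_const)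
  unfold integ
  rw [← integral_add (hint _) (hint _), ← integral_add (hint _) (hint _)]
  refine integral_congr_ae (Filter.Eventually.of_forall fun t => ?_)
  simp only [cons_cons_update]
  exact h _ _ hne _ _ _ _

theorem eq_integ {m : ℕ} {ψ : (Fin (m + 2) → G) → ℝ} (hψ : Continuous ψ) (h : IsCocycle ψ)
    (a b : G) (z : Fin m → G) :
    ψ (Fin.cons a (Fin.cons b z : Fin (m + 1) → G)) =
      integ μ ψ (Fin.cons a z) + integ μ ψ (Fin.cons b z) - integ μ ψ (Fin.cons (a + b) z) := by
  have hc : ∀ s : G, Continuous fun t : G => ψ (Fin.cons s (Fin.cons t z : Fin (m + 1) → G)) := fun s =>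
    hψ.comp (continuous_cons continuous_const (continuous_cons continuous_id continuous_const))
  have hint : ∀ s : G, Integrable (fun t : G => ψ (Fin.cons s (Fin.cons t z : Fin (m + 1) → G))) μ := fun s =>
    integrable_of_bound μ meas_G ⟨_, hc s⟩
  have key : ∀ t : G, ψ (Fin.cons a (Fin.cons b z : Fin (m + 1) → G)) =
      ψ (Fin.cons a (Fin.cons (b + t) z : Fin (m + 1) → G)) + ψ (Fin.cons b (Fin.cons t z : Fin (m + 1) → G)) -
        ψ (Fin.cons (a + b) (Fin.cons t z : Fin (m + 1) → G)) := by
    intro t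
    have h1 := h 0 1 (by simp) (Fin.cons 0 (Fin.cons 0 z : Fin (m + 1) → G)) a b t
    have e : ∀ s s' : G, Function.update (Function.update (Fin.cons 0 (Fin.cons 0 z : Fin (m + 1) → G) :
        Fin (m + 2) → G) 0 s) 1 s' = Fin.cons s (Fin.cons s' z : Fin (m + 1) → G) := by
      intro s s'
      rw [Fin.update_cons_zero]
      have : (1 : Fin (m + 2)) = Fin.succ 0 := rfl
      rw [this, ← Fin.cons_update, Fin.update_cons_zero]
    simp only [e] at h1
    linarith
  have h2 : ψ (Fin.cons a (Fin.cons b z : Fin (m + 1) → G)) =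
      ∫ _t : G, ψ (Fin.cons a (Fin.cons b z : Fin (m + 1) → G)) ∂μ := by
    rw [integral_const]; simp
  have h3 : ∫ t : G, ψ (Fin.cons a (Fin.cons (b + t) z : Fin (m + 1) → G)) ∂μ =
      ∫ t : G, ψ (Fin.cons a (Fin.cons t z : Fin (m + 1) → G)) ∂μ :=
    integral_add_left_eq_self (fun t => ψ (Fin.cons a (Fin.cons t z : Fin (m + 1) → G))) b
  have hint2 : Integrable (fun t : G => ψ (Fin.cons a (Fin.cons (b + t) z : Fin (m + 1) → G))) μ :=
    integrable_of_bound μ meas_G ⟨_, (hc a).comp (continuous_const.add continuous_id)⟩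
  rw [h2, integral_congr_ae (Filter.Eventually.of_forall key)]
  have hadd : Integrable (fun t : G => ψ (Fin.cons a (Fin.cons (b + t) z : Fin (m + 1) → G)) +
      ψ (Fin.cons b (Fin.cons t z : Fin (m + 1) → G))) μ := hint2.add (hint b)
  refine (integral_sub hadd (hint (a + b))).trans ?_
  refine (congrArg₂ (· - ·) (integral_add hint2 (hint b)) rfl).trans ?_
  rw [h3]
  rfl

/-- the function obtained by integrating out all variables but the first -/
noncomputable def phi {m : ℕ} (ψ : (Fin (m + 1) → G) → ℝ) (g : G) : ℝ :=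
  (-1 : ℝ) ^ m * ∫ u, ψ (Fin.cons g u) ∂(Measure.pi (fun _ : Fin m => μ))

theorem continuous_phi {m : ℕ} {ψ : (Fin (m + 1) → G) → ℝ} (hψ : Continuous ψ) : Continuous (phi μ ψ) := by
  unfold phi
  refine continuous_const.mul ?_
  refine continuous_param (Measure.pi (fun _ : Fin m => μ)) measurable_of_continuous
    (F := fun (g : G) (u : Fin m → G) => ψ (Fin.cons g u)) ?_
  exact hψ.comp (continuous_cons continuous_fst continuous_snd)

theorem phi_integ {m : ℕ} {ψ : (Fin (m + 2) → G) → ℝ} (hψ : Continuous ψ) (g : G) :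
    phi μ (integ μ ψ) g = - phi μ ψ g := by
  unfold phi
  have h1 : ∫ u, ψ (Fin.cons g u) ∂(Measure.pi (fun _ : Fin (m + 1) => μ)) =
      ∫ u, integ μ ψ (Fin.cons g u) ∂(Measure.pi (fun _ : Fin m => μ)) := by
    have hmp := measurePreserving_piFinSuccAbove (fun _ : Fin (m + 1) => μ) 0
    have h2 := hmp.integral_comp' (g := fun p : G × (Fin m → G) => ψ (Fin.cons g (Fin.cons p.1 p.2 : Fin (m + 1) → G)))
    have h3 : ∀ u : Fin (m + 1) → G, (fun p : G × (Fin m → G) =>
        ψ (Fin.cons g (Fin.cons p.1 p.2 : Fin (m + 1) → G)))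
          ((MeasurableEquiv.piFinSuccAbove (fun _ : Fin (m + 1) => G) 0) u) = ψ (Fin.cons g u) := by
      intro u
      have : (Fin.cons (u 0) (fun j => u (Fin.succ j)) : Fin (m + 1) → G) = u := Fin.cons_self_tail u
      simp only [MeasurableEquiv.piFinSuccAbove]
      congr 2
    simp_rw [h3] at h2
    rw [h2]
    have hmeas : Measurable (fun p : G × (Fin m → G) => ψ (Fin.cons g (Fin.cons p.1 p.2 : Fin (m + 1) → G))) := by
      have h4 : Measurable fun u : Fin (m + 1) → G => ψ (Fin.cons g u) :=
        measurable_of_continuous' (hψ.comp (continuous_cons continuous_const continuous_id))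
      have h5 := h4.comp (MeasurableEquiv.piFinSuccAbove (fun _ : Fin (m + 1) => G) 0).symm.measurable
      convert h5 using 1
      funext p
      simp only [Function.comp_apply]
      congr 2
      apply (MeasurableEquiv.piFinSuccAbove (fun _ : Fin (m + 1) => G) 0).injective
      rw [MeasurableEquiv.apply_symm_apply]
      rfl
    have hint : Integrable (fun p : G × (Fin m → G) => ψ (Fin.cons g (Fin.cons p.1 p.2 : Fin (m + 1) → G)))
        (μ.prod (Measure.pi (fun _ : Fin m => μ))) := by
      refine Integrable.of_bound hmeas.aestronglyMeasurable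
        ‖(⟨ψ, hψ⟩ : C((Fin (m + 2) → G), ℝ))‖ (Filter.Eventually.of_forall fun x => ?_)
      exact (⟨ψ, hψ⟩ : C((Fin (m + 2) → G), ℝ)).norm_coe_le_norm _
    have h6 := integral_prod_symm _ hint
    refine Eq.trans h6 ?_
    rfl
  rw [← h1, pow_succ]
  ring

theorem dev_neg {f : G → ℝ} (n : ℕ) (x : Fin n → G) : dev (fun g => - f g) n x = - dev f n x := by
  unfold dev
  rw [← Finset.sum_neg_distrib]
  exact Finset.sum_congr rfl fun I _ => smul_neg _ _

theorem dev_sub {f g : G → ℝ} (n : ℕ) (x : Fin n → G) : dev (fun t => f t - g t) n x = dev f n x - dev g n x := by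
  unfold dev
  rw [← Finset.sum_sub_distrib]
  exact Finset.sum_congr rfl fun I _ => smul_sub _ _ _

theorem dev_one (f : G → ℝ) (x : Fin 1 → G) : dev f 1 x = f (x 0) := by
  rw [dev_eq, dfull_eq _ _ _ 0]
  have h : (Finset.univ : Finset (Fin 1)).erase 0 = ∅ := by decide
  unfold part
  rw [h]
  simp

/-- the main formula -/
theorem eq_dev : ∀ (m : ℕ) (ψ : (Fin (m + 1) → G) → ℝ) (_ : Continuous ψ) (_ : IsCocycle ψ)
    (x : Fin (m + 1) → G), ψ x = dev (phi μ ψ) (m + 1) x
  | 0, ψ, hψ, h, x => by
    rw [dev_one]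
    unfold phi
    rw [pow_zero, one_mul]
    have h1 : ∀ u : Fin 0 → G, ψ (Fin.cons (x 0) u) = ψ x := by
      intro u
      congr 1
      funext i
      rw [Fin.eq_zero i]
      rfl
    simp_rw [h1]
    simp
  | m + 1, ψ, hψ, h, x => by
    have ih := eq_dev m (integ μ ψ) (continuous_integ μ hψ) (integ_isCocycle μ hψ h)
    have hphi : phi μ (integ μ ψ) = fun g => - phi μ ψ g := funext fun g => phi_integ μ hψ g
    have hx : x = Fin.cons (x 0) (Fin.cons (x 1) (Fin.tail (Fin.tail x)) : Fin (m + 1) → G) := by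
      have e1 : Fin.cons (x 1) (Fin.tail (Fin.tail x)) = Fin.tail x := Fin.cons_self_tail (Fin.tail x)
      rw [e1, Fin.cons_self_tail]
    rw [hx, eq_integ μ hψ h, ih, ih, ih, hphi, dev_neg, dev_neg, dev_neg]
    have e2 := dev_cons_update (phi μ ψ) (m + 1) (Fin.cons (x 1) (Fin.tail (Fin.tail x))) 0 (x 0) (x 1)
    rw [Fin.update_cons_zero, Fin.update_cons_zero, Fin.update_cons_zero] at e2
    rw [e2]
    ring

/-- a bounded additive real function vanishes -/
theorem eq_zero_of_additive_bounded {A : G → ℝ} (hA : ∀ a b, A (a + b) = A a + A b) (M : ℝ)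
    (hM : ∀ a, |A a| ≤ M) (a : G) : A a = 0 := by
  have h1 : ∀ k : ℕ, A (k • a) = k * A a := by
    intro k
    induction k with
    | zero =>
      have := hA 0 0
      simp at this
      simp [this]
    | succ k ih =>
      rw [succ_nsmul, hA, ih]
      push_cast
      ring
  by_contra hne
  have hpos : 0 < |A a| := abs_pos.mpr hne
  obtain ⟨k, hk⟩ := exists_nat_gt (M / |A a|)
  have h2 := hM (k • a)
  rw [h1, abs_mul, Nat.abs_cast] at h2
  rw [div_lt_iff₀ hpos] at hk
  linarith

theorem continuous_dev {f : G → ℝ} (hf : Continuous f) (n : ℕ) : Continuous (dev f n) := by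
  unfold dev
  refine continuous_finsetSum _ fun I _ => ?_
  have h : Continuous fun x : Fin n → G => ∑ i ∈ I, x i :=
    continuous_finsetSum _ fun i _ => (continuous_apply i : Continuous fun x : Fin n → G => x i)
  exact Continuous.const_smul (g := fun x : Fin n → G => f (∑ i ∈ I, x i)) (hf.comp h) ((-1 : ℤ) ^ _)

theorem eq_zero_of_dev_eq_zero {f : G → ℝ} (hf : Continuous f) : ∀ (m : ℕ) (_ : ∀ x, dev f (m + 1) x = 0) (g : G),
    f g = 0
  | 0, h, g => by
    have := h (fun _ => g)
    rwa [dev_one] at this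
  | m + 1, h, g => by
    refine eq_zero_of_dev_eq_zero hf m (fun y => ?_) g
    have hadd := (dev_succ_eq_zero_iff f (m + 1) (Nat.succ_pos m)).mp h
    obtain ⟨C, hC⟩ : ∃ C, ∀ y, |dev f (m + 1) y| ≤ C := by
      let F : C((Fin (m + 1) → G), ℝ) := ⟨_, continuous_dev hf (m + 1)⟩
      exact ⟨‖F‖, fun y => F.norm_coe_le_norm y⟩
    have h3 := eq_zero_of_additive_bounded (A := fun a => dev f (m + 1) (Function.update y 0 a))
      (fun a b => hadd 0 y a b) C (fun a => hC _) (y 0)
    simpa using h3

end K821.CompactDev
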