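import Mathlib.Topology.ContinuousMap.StoneWeierstrass
import Mathlib.Topology.UrysohnsLemma
import Mathlib.MeasureTheory.Constructions.Pi
import Mathlib.MeasureTheory.Constructions.BorelSpace.Metrizable
import Mathlib.MeasureTheory.Integral.Prod
import Mathlib.MeasureTheory.Group.Integral
import Mathlib.Topology.ContinuousMap.Compact
import Mathlib.Topology.CompactOpen

/-!
Continuous functions on finite powers of a compact Hausdorff space are measurable for the product
sigma-algebra; parametric integrals.
-/

set_option autoImplicit false
universe u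

open MeasureTheory

namespace K821.CompactMeas

variable {G : Type u} [TopologicalSpace G] [CompactSpace G] [T2Space G] [MeasurableSpace G] [BorelSpace G]

/-- the continuous functions that are measurable for the product sigma-algebra -/
def measSub (n : ℕ) : Subalgebra ℝ C((Fin n → G), ℝ) where
  carrier := {f | Measurable f}
  mul_mem' {f g} hf hg := by
    change Measurable (fun x => f x * g x)
    exact Measurable.mul hf hg
  add_mem' {f g} hf hg := by
    change Measurable (fun x => f x + g x)
    exact Measurable.add hf hg
  algebraMap_mem' r := by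
    change Measurable (fun _ => r)
    exact measurable_const

theorem measSub_separates (n : ℕ) : (measSub (G := G) n).SeparatesPoints := by
  intro x y hxy
  obtain ⟨i, hi⟩ := Function.ne_iff.mp hxy
  obtain ⟨f, hf0, hf1, -⟩ := exists_continuous_zero_one_of_isClosed (isClosed_singleton (x := x i))
    (isClosed_singleton (x := y i)) (by simpa using hi)
  refine ⟨_, ⟨f.comp ⟨fun z : Fin n → G => z i, continuous_apply i⟩, ?_, rfl⟩, ?_⟩
  · change Measurable (fun z : Fin n → G => f (z i))
    exact f.continuous.measurable.comp (measurable_pi_apply i)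
  · change f (x i) ≠ f (y i)
    rw [hf0 rfl, hf1 rfl]
    simp

theorem measurable_of_continuous {n : ℕ} (f : C((Fin n → G), ℝ)) : Measurable f := by
  have h1 := ContinuousMap.subalgebra_topologicalClosure_eq_top_of_separatesPoints (measSub (G := G) n)
    (measSub_separates n)
  have h2 : f ∈ (measSub (G := G) n).topologicalClosure := by rw [h1]; trivial
  have h3 : f ∈ closure ((measSub (G := G) n : Subalgebra ℝ C((Fin n → G), ℝ)) : Set C((Fin n → G), ℝ)) := h2
  obtain ⟨g, hg, hlim⟩ := mem_closure_iff_seq_limit.mp h3
  refine measurable_of_tendsto_metrizable (f := fun k x => g k x) (fun k => hg k) ?_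
  rw [tendsto_pi_nhds]
  intro x
  exact ((continuous_eval_const (F := C((Fin n → G), ℝ)) x).tendsto f).comp hlim

theorem measurable_of_continuous' {n : ℕ} {f : (Fin n → G) → ℝ} (hf : Continuous f) : Measurable f :=
  measurable_of_continuous ⟨f, hf⟩

section Param

variable {P K : Type*} [TopologicalSpace P] [TopologicalSpace K] [CompactSpace K] [MeasurableSpace K]
  (ν : Measure K) [IsFiniteMeasure ν]

theorem integrable_of_bound (hmeas : ∀ f : C(K, ℝ), Measurable f) (f : C(K, ℝ)) : Integrable f ν := by
  refine Integrable.of_bound (hmeas f).aestronglyMeasurable ‖f‖ (Filter.Eventually.of_forall fun x => ?_)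
  exact f.norm_coe_le_norm x

theorem continuous_integral_C (hmeas : ∀ f : C(K, ℝ), Measurable f) :
    Continuous fun f : C(K, ℝ) => ∫ x, f x ∂ν := by
  have hL : LipschitzWith (Real.toNNReal (ν.real Set.univ)) fun f : C(K, ℝ) => ∫ x, f x ∂ν := by
    refine LipschitzWith.of_dist_le_mul fun f g => ?_
    rw [dist_eq_norm, ← integral_sub (integrable_of_bound ν hmeas f) (integrable_of_bound ν hmeas g),
      dist_eq_norm, Real.coe_toNNReal _ measureReal_nonneg, mul_comm]
    refine norm_integral_le_of_norm_le_const (Filter.Eventually.of_forall fun x => ?_)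
    exact (f - g).norm_coe_le_norm x
  exact hL.continuous

theorem continuous_param (hmeas : ∀ f : C(K, ℝ), Measurable f) {F : P → K → ℝ}
    (hF : Continuous (Function.uncurry F)) : Continuous fun p => ∫ x, F p x ∂ν := by
  let Φ : C(P, C(K, ℝ)) := ContinuousMap.curry ⟨Function.uncurry F, hF⟩
  exact (continuous_integral_C ν hmeas).comp Φ.continuous

end Param

end K821.CompactMeas
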