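import Mathlib.Algebra.Ring.Int.Defs
import Mathlib.Algebra.Ring.Parity
import Mathlib.Algebra.Module.Basic
import Mathlib.Tactic.Module
import Mathlib.Tactic.Ring
import Mathlib.Tactic.LinearCombination
import Mathlib.Tactic.Abel

/-!
Maps of abelian groups that are pointed of degree two.
-/

set_option autoImplicit false
universe u v

namespace K821.DegTwo

variable {A : Type u} {G : Type v} [AddCommGroup A] [AddCommGroup G] {f : A → G}

theorem map_zero (hf : ∀ x y z : A, f (x + y + z) + f x + f y + f z = f (x + y) + f (x + z) + f (y + z)) :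
    f 0 = 0 := by
  have h := hf 0 0 0
  simp only [add_zero] at h
  have h2 : f 0 + f 0 + f 0 + f 0 = 0 + (f 0 + f 0 + f 0) := by rw [h]; abel
  have h3 : f 0 + (f 0 + f 0 + f 0) = 0 + (f 0 + f 0 + f 0) := by rw [← h2]; abel
  exact add_right_cancel h3

/-- the polar form is additive in the first variable -/
theorem polar_add (hf : ∀ x y z : A, f (x + y + z) + f x + f y + f z = f (x + y) + f (x + z) + f (y + z))
    (x y z : A) :
    f (x + y + z) - f (x + y) - f z = (f (x + z) - f x - f z) + (f (y + z) - f y - f z) := by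
  have h := hf x y z
  have h2 : f (x + y + z) = f (x + y) + f (x + z) + f (y + z) - f x - f y - f z := by
    rw [← h]; abel
  rw [h2]; abel

theorem polar_nsmul (hf : ∀ x y z : A, f (x + y + z) + f x + f y + f z = f (x + y) + f (x + z) + f (y + z))
    (n : ℕ) (x z : A) :
    f (n • x + z) - f (n • x) - f z = n • (f (x + z) - f x - f z) := by
  induction n with
  | zero => simp [map_zero hf]
  | succ n ih =>
    rw [succ_nsmul, polar_add hf, ih, succ_nsmul]

theorem polar_zsmul (hf : ∀ x y z : A, f (x + y + z) + f x + f y + f z = f (x + y) + f (x + z) + f (y + z))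
    (n : ℤ) (x z : A) :
    f (n • x + z) - f (n • x) - f z = n • (f (x + z) - f x - f z) := by
  have key : ∀ m : ℕ, f ((m : ℤ) • x + z) - f ((m : ℤ) • x) - f z = (m : ℤ) • (f (x + z) - f x - f z) := by
    intro m
    have := polar_nsmul hf m x z
    simpa only [natCast_zsmul] using this
  obtain ⟨m, rfl | rfl⟩ := n.eq_nat_or_neg
  · exact key m
  · have h := polar_add hf ((m : ℤ) • x) (-((m : ℤ) • x)) z
    rw [key m] at h
    rw [add_neg_cancel, zero_add, map_zero hf, sub_zero, sub_self] at h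
    rw [neg_smul, neg_smul]
    exact (neg_eq_of_add_eq_zero_right h.symm).symm

/-- the polar form at `(x,x)` is `f x + f (-x)` -/
theorem polar_self (hf : ∀ x y z : A, f (x + y + z) + f x + f y + f z = f (x + y) + f (x + z) + f (y + z))
    (x : A) : f (x + x) - f x - f x = f x + f (-x) := by
  have h := polar_zsmul hf (-1) x x
  rw [neg_one_zsmul, neg_one_zsmul, neg_add_cancel, map_zero hf] at h
  have : -(f (x + x) - f x - f x) = -(f x + f (-x)) := by rw [← h]; abel
  exact neg_injective this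

theorem tri_succ (n : ℤ) : (n + 1) * (n + 2) / 2 = n * (n + 1) / 2 + (n + 1) := by
  rw [← Int.add_mul_ediv_right _ _ (by norm_num : (2 : ℤ) ≠ 0)]
  congr 1
  ring

theorem map_succ_zsmul (hf : ∀ x y z : A, f (x + y + z) + f x + f y + f z = f (x + y) + f (x + z) + f (y + z))
    (n : ℤ) (x : A) : f ((n + 1) • x) = f (n • x) + (n + 1) • f x + n • f (-x) := by
  have h := polar_zsmul hf n x x
  rw [polar_self hf] at h
  have h2 : f (n • x + x) = n • (f x + f (-x)) + f (n • x) + f x := by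
    rw [← h]; abel
  rw [add_smul, one_smul, h2]
  module

theorem map_zsmul (hf : ∀ x y z : A, f (x + y + z) + f x + f y + f z = f (x + y) + f (x + z) + f (y + z))
    (n : ℤ) (x : A) :
    f (n • x) = (n * (n + 1) / 2) • f x + (n * (n - 1) / 2) • f (-x) := by
  induction n using Int.induction_on with
  | zero => simp [map_zero hf]
  | succ n ih =>
    rw [map_succ_zsmul hf, ih]
    have h1 : ((n : ℤ) + 1) * ((n : ℤ) + 1 + 1) / 2 = (n : ℤ) * (n + 1) / 2 + (n + 1) := by
      rw [← tri_succ]; ring_nf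
    have h2 : ((n : ℤ) + 1) * ((n : ℤ) + 1 - 1) / 2 = (n : ℤ) * (n - 1) / 2 + n := by
      have := tri_succ ((n : ℤ) - 1)
      have e1 : ((n : ℤ) - 1 + 1) * ((n : ℤ) - 1 + 2) = ((n : ℤ) + 1) * ((n : ℤ) + 1 - 1) := by ring
      have e2 : ((n : ℤ) - 1) * ((n : ℤ) - 1 + 1) = (n : ℤ) * (n - 1) := by ring
      rw [e1, e2] at this
      rw [this]; ring
    rw [h1, h2]
    module
  | pred n ih =>
    have h := map_succ_zsmul hf (-(n : ℤ) - 1) x
    rw [sub_add_cancel, ih] at h
    have h1 : (-(n : ℤ) - 1) * ((-(n : ℤ) - 1) + 1) / 2 = -(n : ℤ) * (-n + 1) / 2 + n := by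
      have := tri_succ (-(n : ℤ) - 1)
      have e1 : (-(n : ℤ) - 1 + 1) * (-(n : ℤ) - 1 + 2) = -(n : ℤ) * (-n + 1) := by ring
      rw [e1] at this
      rw [this]; ring
    have h2 : (-(n : ℤ) - 1) * ((-(n : ℤ) - 1) - 1) / 2 = -(n : ℤ) * (-n - 1) / 2 + (n + 1) := by
      have := tri_succ (-(n : ℤ) - 2)
      have e1 : (-(n : ℤ) - 2 + 1) * (-(n : ℤ) - 2 + 2) = -(n : ℤ) * (-n - 1) := by ring
      have e2 : (-(n : ℤ) - 2) * (-(n : ℤ) - 2 + 1) = (-(n : ℤ) - 1) * ((-(n : ℤ) - 1) - 1) := by ring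
      rw [e1, e2] at this
      rw [this]; ring
    rw [h1, h2]
    have h' : f ((-(n : ℤ) - 1) • x) = (-(n : ℤ) * (-n + 1) / 2) • f x + (-(n : ℤ) * (-n - 1) / 2) • f (-x)
        - (-(n : ℤ)) • f x - (-(n : ℤ) - 1) • f (-x) := by
      rw [h]; module
    rw [h']
    module

/-- twice the formula, without division -/
theorem two_zsmul_map_zsmul (hf : ∀ x y z : A, f (x + y + z) + f x + f y + f z = f (x + y) + f (x + z) + f (y + z))
    (n : ℤ) (x : A) :
    (2 : ℤ) • f (n • x) = (n * (n + 1)) • f x + (n * (n - 1)) • f (-x) := by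
  rw [map_zsmul hf, smul_add, smul_smul, smul_smul]
  congr 2
  · exact Int.mul_ediv_cancel' (Int.even_mul_succ_self n).two_dvd
  · exact Int.mul_ediv_cancel' (Int.even_mul_pred_self n).two_dvd

theorem zsmul_polar_eq_zero (hf : ∀ x y z : A, f (x + y + z) + f x + f y + f z = f (x + y) + f (x + z) + f (y + z))
    (n : ℤ) (hn : ∀ x : A, n • x = 0) (x : A) : n • (f x + f (-x)) = 0 := by
  rw [← polar_self hf, ← polar_zsmul hf, hn, zero_add, map_zero hf]
  abel

theorem two_mul_zsmul_map_eq_zero (hf : ∀ x y z : A, f (x + y + z) + f x + f y + f z = f (x + y) + f (x + z) + f (y + z))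
    (n : ℤ) (hn : ∀ x : A, n • x = 0) (x : A) : (2 * n) • f x = 0 := by
  have h := two_zsmul_map_zsmul hf n x
  rw [hn, map_zero hf, smul_zero] at h
  have h2 := zsmul_polar_eq_zero hf n hn x
  have h3 : (2 * n) • f x = ((n * (n + 1)) • f x + (n * (n - 1)) • f (-x)) - (n - 1) • (n • (f x + f (-x))) := by
    module
  rw [h3, ← h, h2, smul_zero, sub_zero]

theorem zsmul_map_eq_zero_of_odd (hf : ∀ x y z : A, f (x + y + z) + f x + f y + f z = f (x + y) + f (x + z) + f (y + z))
    (n : ℤ) (hn : ∀ x : A, n • x = 0) (ho : Odd n) (x : A) : n • f x = 0 := by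
  obtain ⟨k, rfl⟩ := ho
  have h := map_zsmul hf (2 * k + 1) x
  rw [hn, map_zero hf] at h
  have e1 : (2 * k + 1) * (2 * k + 1 + 1) / 2 = (2 * k + 1) * (k + 1) := by
    rw [show (2 * k + 1) * (2 * k + 1 + 1) = 2 * ((2 * k + 1) * (k + 1)) by ring]
    exact Int.mul_ediv_cancel_left _ (by norm_num)
  have e2 : (2 * k + 1) * (2 * k + 1 - 1) / 2 = (2 * k + 1) * k := by
    rw [show (2 * k + 1) * (2 * k + 1 - 1) = 2 * ((2 * k + 1) * k) by ring]
    exact Int.mul_ediv_cancel_left _ (by norm_num)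
  rw [e1, e2] at h
  have h2 := zsmul_polar_eq_zero hf (2 * k + 1) hn x
  have h3 : (2 * k + 1) • f x = (((2 * k + 1) * (k + 1)) • f x + ((2 * k + 1) * k) • f (-x)) -
      k • ((2 * k + 1) • (f x + f (-x))) := by
    module
  rw [h3, ← h, h2, smul_zero, sub_zero]

end K821.DegTwo
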